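import Mathlib

/-!
An extension of `A₆` by an involution centralising an element of order three is `S₆`.
-/

set_option autoImplicit false

namespace Cfsg.Agent.H64.CentSym

open Equiv

/-- `A₆`. -/
abbrev A6 : Type := ↥(alternatingGroup (Fin 6))

/-- A point stabiliser in `A₆`. -/
abbrev stab (a : Fin 6) : Subgroup A6 := MulAction.stabilizer A6 a

theorem card_stab (a : Fin 6) : Nat.card ↥(stab a) = 60 := by
  have hA : Nat.card A6 = 360 := by
    rw [nat_card_alternatingGroup, Nat.card_fin]; rfl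
  have : MulAction.IsPretransitive A6 (Fin 6) :=
    alternatingGroup.isPretransitive_of_three_le_card (Fin 6) (by simp)
  have h := (stab a).card_mul_index
  rw [MulAction.index_stabilizer_of_transitive, Nat.card_fin, hA] at h
  omega

theorem stab_moves : ∀ b : Fin 6, b ≠ 0 → ∃ σ : Perm (Fin 6), Perm.sign σ = 1 ∧ σ 0 = 0 ∧ σ b ≠ b := by
  decide +kernel

/-- The normaliser of a point stabiliser is itself. -/
theorem normalizer_stab {n : A6} (hn : ∀ x ∈ stab 0, n⁻¹ * x * n ∈ stab 0) : n ∈ stab 0 := by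
  by_contra hne
  obtain ⟨σ, hσ, hσ0, hσb⟩ := stab_moves (n • 0) (fun h => hne (MulAction.mem_stabilizer_iff.2 h))
  have h := MulAction.mem_stabilizer_iff.1 (hn ⟨σ, Equiv.Perm.mem_alternatingGroup.2 hσ⟩
    (MulAction.mem_stabilizer_iff.2 hσ0))
  rw [mul_smul, mul_smul, inv_smul_eq_iff] at h
  exact hσb h

/-- A subgroup of order 60 without fixed point has no element of order three fixing a point. -/
theorem fixed_point_free {K : Subgroup A6} (hK : Nat.card ↥K = 60)
    (hfix : ∀ a : Fin 6, ∃ k ∈ K, k • a ≠ a) {c : A6} (hc : c ∈ K) (h3 : orderOf c = 3) (a : Fin 6) :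
    c • a ≠ a := by
  intro hca
  have : Fact (Nat.Prime 5) := ⟨by norm_num⟩
  obtain ⟨x, hx5⟩ := exists_prime_orderOf_dvd_card' (G := ↥K) 5 (by rw [hK]; norm_num)
  have hx : orderOf ((x : A6) : Perm (Fin 6)) = 5 := by
    rw [Subgroup.orderOf_coe, Subgroup.orderOf_coe, hx5]
  have hcyc : ((x : A6) : Perm (Fin 6)).IsCycle :=
    Perm.isCycle_of_prime_order (by rw [hx]; norm_num) (by
      rw [hx]
      have := Finset.card_le_univ ((x : A6) : Perm (Fin 6)).support
      simp at this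
      omega)
  have hsupp : ((x : A6) : Perm (Fin 6)).support.card = 5 := by rw [← hcyc.orderOf, hx]
  have horb : ∀ b : Fin 6, ∃ k ∈ K, k • a = b := by
    let x' : Perm (Fin 6) := ((x : A6) : Perm (Fin 6))
    have hmoved : ∀ b b' : Fin 6, x' b ≠ b → x' b' ≠ b' → ∃ k ∈ K, k • b = b' := by
      intro b b' hb hb'
      obtain ⟨i, hi⟩ := hcyc.exists_pow_eq hb hb'
      exact ⟨(x : A6) ^ i, pow_mem x.2 i, by rw [← hi]; rfl⟩
    have hone : ∀ b b' : Fin 6, x' b = b → x' b' = b' → b = b' := by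
      intro b b' hb hb'
      have h : (Finset.univ \ x'.support).card = 1 := by
        rw [Finset.card_sdiff_of_subset (Finset.subset_univ _), hsupp]; rfl
      exact Finset.card_le_one.1 h.le b (by simpa using hb) b' (by simpa using hb')
    -- every point reaches some moved point and conversely
    have hreach : ∀ b : Fin 6, ∃ k ∈ K, x' (k • b) ≠ k • b := by
      intro b
      by_cases hb : x' b = b
      · obtain ⟨k, hk, hkb⟩ := hfix b
        exact ⟨k, hk, fun h => hkb (hone _ _ h hb)⟩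
      · exact ⟨1, one_mem K, by rwa [one_smul]⟩
    intro b
    obtain ⟨k, hk, hka⟩ := hreach a
    obtain ⟨k', hk', hkb⟩ := hreach b
    obtain ⟨j, hj, hjk⟩ := hmoved _ _ hka hkb
    exact ⟨k'⁻¹ * j * k, mul_mem (mul_mem (inv_mem hk') hj) hk, by rw [mul_smul, mul_smul, hjk, inv_smul_smul]⟩
  have hdvd : orderOf (⟨c, hc⟩ : ↥K) ∣ Nat.card ↥(MulAction.stabilizer ↥K a) :=
    Subgroup.orderOf_dvd_natCard _ (MulAction.mem_stabilizer_iff.2 hca)
  have htr : MulAction.IsPretransitive ↥K (Fin 6) := ⟨fun b b' => by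
    obtain ⟨k, hk, hkb⟩ := horb b
    obtain ⟨k', hk', hkb'⟩ := horb b'
    exact ⟨⟨k' * k⁻¹, mul_mem hk' (inv_mem hk)⟩, by
      show (k' * k⁻¹) • b = b'
      rw [← hkb, ← hkb', mul_smul, inv_smul_smul]⟩⟩
  have hidx := (MulAction.stabilizer ↥K a).card_mul_index
  rw [MulAction.index_stabilizer_of_transitive, Nat.card_fin, hK] at hidx
  rw [Subgroup.orderOf_mk, h3] at hdvd
  rw [show Nat.card ↥(MulAction.stabilizer ↥K a) = 10 by omega] at hdvd
  omega

/-- The fixed-point-free elements of order three form one class of `A₆`. -/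
theorem fpf_conj {c d : A6} (hc : orderOf c = 3) (hd : orderOf d = 3) (hcf : ∀ a : Fin 6, c • a ≠ a)
    (hdf : ∀ a : Fin 6, d • a ≠ a) : ∃ g : A6, g * d * g⁻¹ = c := by
  have hct : ∀ e : A6, orderOf e = 3 → (∀ a : Fin 6, e • a ≠ a) → (e : Perm (Fin 6)).cycleType = {3, 3} := by
    intro e he hef
    obtain ⟨n, hn⟩ := Perm.cycleType_prime_order (σ := (e : Perm (Fin 6)))
      (by rw [Subgroup.orderOf_coe, he]; norm_num)
    rw [Subgroup.orderOf_coe, he] at hn
    have hs := Perm.sum_cycleType (e : Perm (Fin 6))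
    rw [hn, Multiset.sum_replicate, show (e : Perm (Fin 6)).support = Finset.univ from
      Finset.eq_univ_iff_forall.2 fun a => Perm.mem_support.2 (hef a), Finset.card_univ, Fintype.card_fin,
      smul_eq_mul] at hs
    rw [hn, show n + 1 = 2 by omega]
    rfl
  let c₀ : Perm (Fin 6) := Equiv.swap 0 1 * Equiv.swap 1 2 * (Equiv.swap 3 4 * Equiv.swap 4 5)
  let τ : Perm (Fin 6) := Equiv.swap 0 3 * Equiv.swap 1 4 * Equiv.swap 2 5
  have hτ : τ * c₀ * τ⁻¹ = c₀ ∧ Perm.sign τ = -1 := by decide +kernel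
  have hc₀ : orderOf (⟨c₀, Perm.mem_alternatingGroup.2 (by decide +kernel)⟩ : A6) = 3 :=
    orderOf_eq_prime (by decide +kernel) (by decide +kernel)
  have hc₀f : ∀ a : Fin 6, c₀ a ≠ a := by decide +kernel
  have key : ∀ e : A6, orderOf e = 3 → (∀ a : Fin 6, e • a ≠ a) →
      ∃ g : A6, (g : Perm (Fin 6)) * c₀ * (g : Perm (Fin 6))⁻¹ = e := by
    intro e he hef
    obtain ⟨σ, hσ⟩ := isConj_iff.1 ((Perm.isConj_iff_cycleType_eq (σ := c₀) (τ := (e : Perm (Fin 6)))).2
      ((hct _ hc₀ hc₀f).trans (hct e he hef).symm))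
    rcases Int.units_eq_one_or (Perm.sign σ) with h | h
    · exact ⟨⟨σ, Perm.mem_alternatingGroup.2 h⟩, hσ⟩
    · refine ⟨⟨σ * τ, Perm.mem_alternatingGroup.2 (by rw [map_mul, h, hτ.2]; rfl)⟩, ?_⟩
      show σ * τ * c₀ * (σ * τ)⁻¹ = e
      calc σ * τ * c₀ * (σ * τ)⁻¹ = σ * (τ * c₀ * τ⁻¹) * σ⁻¹ := by group
        _ = e := by rw [hτ.1, hσ]
  obtain ⟨g, hg⟩ := key c hc hcf
  obtain ⟨g', hg'⟩ := key d hd hdf
  refine ⟨g * g'⁻¹, Subtype.ext ?_⟩
  show (g : Perm (Fin 6)) * (g' : Perm (Fin 6))⁻¹ * d * ((g : Perm (Fin 6)) * (g' : Perm (Fin 6))⁻¹)⁻¹ = c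
  rw [← hg, ← hg']
  group

/-- An involutory automorphism of `A₆` fixing an element of order three maps a point stabiliser to a
point stabiliser. -/
theorem exists_stab_image (α : A6 ≃* A6) (h2 : ∀ x, α (α x) = x) (c : A6) (h3 : orderOf c = 3) (hαc : α c = c) :
    ∃ j : Fin 6, ∀ x ∈ stab 0, α x • j = j := by
  by_contra h
  push Not at h
  have : MulAction.IsPretransitive A6 (Fin 6) :=
    alternatingGroup.isPretransitive_of_three_le_card (Fin 6) (by simp)
  have hF : ∀ x : A6, orderOf x = 3 → (∃ a : Fin 6, x • a = a) → ∀ b : Fin 6, α x • b ≠ b := by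
    rintro x hx ⟨a, ha⟩ b
    obtain ⟨g, hg⟩ := MulAction.exists_smul_eq A6 a (0 : Fin 6)
    have hx0 : g * x * g⁻¹ ∈ stab 0 := by
      rw [MulAction.mem_stabilizer_iff, ← hg, mul_smul, mul_smul, inv_smul_smul, ha]
    have hf := fixed_point_free (K := (stab 0).map α.toMonoidHom)
      (by rw [Subgroup.card_map_of_injective (show Function.Injective α.toMonoidHom from α.injective),
        card_stab])
      (fun j => by
        obtain ⟨y, hy, hyj⟩ := h j
        exact ⟨α y, Subgroup.mem_map_of_mem _ hy, hyj⟩)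
      (c := α (g * x * g⁻¹)) (Subgroup.mem_map_of_mem _ hx0)
      (by rw [MulEquiv.orderOf_eq, ← hx]; exact orderOf_injective (MulAut.conj g).toMonoidHom (MulEquiv.injective _) x)
      (α g • b)
    intro hb
    refine hf ?_
    rw [map_mul, map_mul, map_inv, mul_smul, mul_smul, inv_smul_smul, hb]
  by_cases hcfix : ∃ a : Fin 6, c • a = a
  · obtain ⟨a, ha⟩ := hcfix
    exact hF c h3 ⟨a, ha⟩ a (hαc.symm ▸ ha)
  push Not at hcfix
  let f : A6 := ⟨Equiv.swap 0 1 * Equiv.swap 1 2, Perm.mem_alternatingGroup.2 (by decide +kernel)⟩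
  have hf3 : orderOf f = 3 := orderOf_eq_prime (by decide +kernel) (by decide +kernel)
  have hf5 : f • (5 : Fin 6) = 5 := by decide +kernel
  obtain ⟨g, hg⟩ := fpf_conj h3 (show orderOf (α f) = 3 by rw [MulEquiv.orderOf_eq, hf3]) hcfix
    (hF f hf3 ⟨5, hf5⟩)
  refine hcfix (α g • (5 : Fin 6)) ?_
  conv_lhs => rw [← hαc, ← hg, map_mul, map_mul, map_inv, h2]
  rw [mul_smul, mul_smul, inv_smul_smul, hf5]

theorem mem_normalizer_of_map {G : Type*} [Group G] {X : Subgroup G} {s : G}
    (h : X.map (MulAut.conj s).toMonoidHom = X) : s ∈ Subgroup.normalizer (X : Set G) := by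
  rw [Subgroup.mem_normalizer_iff]
  intro x
  constructor
  · intro hx
    exact h ▸ Subgroup.mem_map_of_mem (MulAut.conj s).toMonoidHom hx
  · intro hx
    obtain ⟨y, hy, e⟩ : s * x * s⁻¹ ∈ X.map (MulAut.conj s).toMonoidHom := by rw [h]; exact hx
    exact (MulAut.conj s).injective e ▸ hy

/-- The extension. -/
theorem iso_perm_six {G : Type*} [Group G] [Finite G] (M : Subgroup G) (hM : M.index = 2)
    (φ : ↥M ≃* A6) (t : G) (ht : t ∉ M) (htt : t * t = 1) (c : G) (hcM : c ∈ M) (hc : orderOf c = 3)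
    (hct : Commute c t)
    (hsmall : ∀ N : Subgroup G, N.Normal → N ⊓ M = ⊥ → N = ⊥) : Nonempty (G ≃* Perm (Fin 6)) := by
  classical
  have hMn : M.Normal := Subgroup.normal_of_index_eq_two hM
  have : MulAction.IsPretransitive A6 (Fin 6) :=
    alternatingGroup.isPretransitive_of_three_le_card (Fin 6) (by simp)
  have htinv : t⁻¹ = t := inv_eq_of_mul_eq_one_right htt
  let τ : ↥M → ↥M := fun m => ⟨t * m * t⁻¹, hMn.conj_mem _ m.2 t⟩
  have hττ : ∀ m, τ (τ m) = m := fun m => Subtype.ext <| by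
    show t * (t * (m : G) * t⁻¹) * t⁻¹ = m
    calc t * (t * (m : G) * t⁻¹) * t⁻¹ = t * t * m * (t * t)⁻¹ := by group
      _ = m := by rw [htt]; group
  let τe : ↥M ≃* ↥M :=
    { toFun := τ, invFun := τ, left_inv := hττ, right_inv := hττ,
      map_mul' := fun a b => Subtype.ext (by simp [τ, mul_assoc]) }
  let α : A6 ≃* A6 := (φ.symm.trans τe).trans φ
  have hα2 : ∀ x, α (α x) = x := fun x => by simp [α, τe, hττ]
  have hαc : α (φ ⟨c, hcM⟩) = φ ⟨c, hcM⟩ := by
    simp only [α, MulEquiv.trans_apply, MulEquiv.symm_apply_apply, EmbeddingLike.apply_eq_iff_eq]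
    refine Subtype.ext ?_
    show t * c * t⁻¹ = c
    rw [← hct.eq, mul_inv_cancel_right]
  obtain ⟨j, hj⟩ := exists_stab_image α hα2 _
    (by rw [MulEquiv.orderOf_eq, Subgroup.orderOf_mk, hc]) hαc
  obtain ⟨m, hm⟩ := MulAction.exists_smul_eq A6 (0 : Fin 6) j
  set K : Subgroup G := ((stab 0).comap φ.toMonoidHom).map M.subtype with hK
  have hKcard : Nat.card ↥K = 60 := by
    rw [hK, Subgroup.card_map_of_injective M.subtype_injective, ← card_stab 0]
    exact Nat.card_congr (φ.toEquiv.subtypeEquiv fun x => Iff.rfl)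
  set N := Subgroup.normalizer (K : Set G)
  set u : G := (φ.symm m : ↥M)⁻¹ * t with hu
  have huN : u ∈ N := by
    refine mem_normalizer_of_map ?_
    refine Subgroup.eq_of_le_of_card_ge ?_ (Subgroup.card_map_of_injective (MulAut.conj u).injective).ge
    rintro _ ⟨_, ⟨x, hx, rfl⟩, rfl⟩
    refine ⟨φ.symm m⁻¹ * τe x * φ.symm m, ?_, ?_⟩
    · show φ (φ.symm m⁻¹ * τe x * φ.symm m) • (0 : Fin 6) = 0
      have h := hj (φ x) hx
      simp only [α, MulEquiv.trans_apply, MulEquiv.symm_apply_apply] at h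
      rw [map_mul, map_mul, φ.apply_symm_apply, φ.apply_symm_apply, mul_smul, mul_smul, hm, h, ← hm,
        inv_smul_smul]
    · simp [hu, τe, τ, mul_assoc]
  have huM : u ∉ M := fun h => ht (by
    have := mul_mem (φ.symm m).2 h
    rwa [hu, Subgroup.coe_inv, mul_inv_cancel_left] at this)
  have hNM : N ⊓ M = K := by
    refine le_antisymm ?_ (le_inf Subgroup.le_normalizer (Subgroup.map_subtype_le _))
    rintro g ⟨hgN, hgM⟩
    refine ⟨⟨g, hgM⟩, normalizer_stab fun x hx => ?_, rfl⟩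
    have h1 : (φ.symm x : G) ∈ K := ⟨φ.symm x, by simpa using hx, rfl⟩
    obtain ⟨y, hy, he⟩ := (Subgroup.mem_normalizer_iff'.1 hgN ((g⁻¹ * (φ.symm x : G)))).2
      (by rwa [mul_inv_cancel_left])
    have hy' : y = (⟨g, hgM⟩ : ↥M)⁻¹ * φ.symm x * ⟨g, hgM⟩ := Subtype.ext he
    rw [hy'] at hy
    simpa using hy
  have hrel : M.relIndex N = 2 := by
    have hd : M.relIndex N ∣ M.index := Subgroup.relIndex_dvd_index_of_normal M N
    rw [hM] at hd
    exact ((Nat.dvd_prime Nat.prime_two).1 hd).resolve_left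
      fun h => huM (Subgroup.relIndex_eq_one.1 h huN)
  have hN120 : Nat.card ↥N = 120 := by
    have h := Subgroup.relIndex_mul_relIndex ⊥ (N ⊓ M) N bot_le inf_le_left
    rw [Subgroup.inf_relIndex_left, hrel, Subgroup.relIndex_bot_left, Subgroup.relIndex_bot_left, hNM,
      hKcard] at h
    exact h.symm
  have hG : Nat.card G = 720 := by
    rw [← M.card_mul_index, hM, Nat.card_congr φ.toEquiv, nat_card_alternatingGroup, Nat.card_fin]
    rfl
  have hidx : N.index = 6 := by
    have := N.card_mul_index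
    rw [hN120, hG] at this
    omega
  have hinj : Function.Injective (MulAction.toPermHom G (G ⧸ N)) := by
    rw [← MonoidHom.ker_eq_bot_iff, ← Subgroup.normalCore_eq_ker]
    refine hsmall _ N.normalCore_normal ?_
    have hA : IsSimpleGroup ↥M := by
      have : IsSimpleGroup A6 := alternatingGroup.isSimpleGroup (by simp)
      exact φ.isSimpleGroup
    rcases (inferInstance : (N.normalCore.subgroupOf M).Normal).eq_bot_or_eq_top with h | h
    · rw [Subgroup.subgroupOf_eq_bot] at h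
      exact h.eq_bot
    · have hle : M ≤ N ⊓ M := le_inf ((Subgroup.subgroupOf_eq_top.1 h).trans N.normalCore_le) le_rfl
      have := Subgroup.card_le_of_le hle
      rw [hNM, hKcard, Nat.card_congr φ.toEquiv, nat_card_alternatingGroup, Nat.card_fin] at this
      simp [Nat.factorial] at this
  have hcQ : Nat.card (G ⧸ N) = 6 := by rw [← Subgroup.index_eq_card, hidx]
  have : Finite (G ⧸ N) := inferInstance
  let e₆ : G ⧸ N ≃ Fin 6 := Nat.equivFinOfCardPos (by omega) |>.trans (finCongr hcQ)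
  have hbij : Function.Bijective (MulAction.toPermHom G (G ⧸ N)) := (Nat.bijective_iff_injective_and_card _).2
    ⟨hinj, by rw [hG, Nat.card_perm, hcQ]; rfl⟩
  exact ⟨(MulEquiv.ofBijective _ hbij).trans e₆.permCongrHom⟩

end Cfsg.Agent.H64.CentSym
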