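import Mathlib

/-!
The group `Z₂ × S₄`, as the centraliser of an involution `t` with Sylow subgroup `T = C(z)`.
-/

set_option autoImplicit false

namespace Cfsg.Agent.H64.CentSym

open Subgroup

/-- `Z₂ × S₄`. -/
abbrev K : Type := Multiplicative (ZMod 2) × Equiv.Perm (Fin 4)

/-- The nontrivial element of `Z₂`. -/
abbrev neg : Multiplicative (ZMod 2) := Multiplicative.ofAdd 1

/-- The double transposition central in the fixed Sylow subgroup of `S₄`. -/
abbrev dlt : Equiv.Perm (Fin 4) := Equiv.swap 0 2 * Equiv.swap 1 3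

/-- A transposition. -/
abbrev tsw : Equiv.Perm (Fin 4) := Equiv.swap 0 1

theorem two_cases : ∀ a : Multiplicative (ZMod 2), a = 1 ∨ a = neg := by decide

theorem center_trivial : ∀ σ : Equiv.Perm (Fin 4), (∀ π, π * σ = σ * π) → σ = 1 := by decide +kernel

theorem invol_cases : ∀ σ : Equiv.Perm (Fin 4), σ * σ = 1 →
    σ = 1 ∨ (∃ π, π * σ * π⁻¹ = dlt) ∨ ∃ π, π * σ * π⁻¹ = tsw := by decide +kernel

theorem double_of_commute : ∀ σ : Equiv.Perm (Fin 4), (∃ π, π * σ * π⁻¹ = dlt) →
    σ * tsw = tsw * σ → σ = Equiv.swap 0 1 * Equiv.swap 2 3 := by decide +kernel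

theorem double_conj : ∃ π : Equiv.Perm (Fin 4), π * (Equiv.swap 0 1 * Equiv.swap 2 3) * π⁻¹ = dlt := by
  decide +kernel

theorem central_in_sylow : ∀ σ : Equiv.Perm (Fin 4), σ * dlt = dlt * σ →
    (∀ π, π * dlt = dlt * π → π * σ = σ * π) → σ = 1 ∨ σ = dlt := by decide +kernel

theorem commutator_in_sylow : ∀ σ : Equiv.Perm (Fin 4), σ * dlt = dlt * σ → ∀ π, π * dlt = dlt * π →
    σ * π * σ⁻¹ * π⁻¹ = 1 ∨ σ * π * σ⁻¹ * π⁻¹ = dlt := by decide +kernel

theorem card_dlt_centralizer :
    Nat.card ↥(centralizer ({dlt} : Set (Equiv.Perm (Fin 4)))) = 8 := by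
  classical
  rw [Nat.card_congr (Equiv.subtypeEquivRight
    (p := fun σ => σ ∈ centralizer ({dlt} : Set (Equiv.Perm (Fin 4)))) (q := fun σ => σ * dlt = dlt * σ)
    fun σ => mem_centralizer_singleton_iff), Nat.card_eq_fintype_card]
  decide +kernel

/-- An involution `t` with centraliser `Z₂ × S₄`, a Sylow subgroup `T` of `G` inside it equal to the
centraliser of the image of `dlt`. -/
structure Data (G : Type*) [Group G] where
  t : G
  T : Sylow 2 G
  inc : K →* G
  inj : Function.Injective inc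
  inc_neg : inc (neg, 1) = t
  exists_inc : ∀ g : G, Commute g t → ∃ p, inc p = g
  memT : ∀ p : K, inc p ∈ (T : Subgroup G) ↔ p.2 * dlt = dlt * p.2
  commute_of_memT : ∀ g ∈ (T : Subgroup G), Commute g t
  centz : ∀ g : G, Commute g (inc (1, dlt)) → g ∈ (T : Subgroup G)

/-- The standard Sylow 2-subgroup of `Z₂ × S₄`. -/
noncomputable def stdSylow : Sylow 2 K :=
  have : Fact (Nat.Prime 2) := ⟨Nat.prime_two⟩
  have h16 : Nat.card ↥((⊤ : Subgroup (Multiplicative (ZMod 2))).prod (centralizer ({dlt} : Set _))) = 16 := by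
    rw [Nat.card_congr ((⊤ : Subgroup (Multiplicative (ZMod 2))).prodEquiv _).toEquiv, Nat.card_prod,
      Subgroup.card_top, card_dlt_centralizer]
    simp
  (IsPGroup.of_card (p := 2) (n := 4) h16).toSylow (by
    have h := Subgroup.card_mul_index ((⊤ : Subgroup (Multiplicative (ZMod 2))).prod (centralizer ({dlt} : Set _)))
    rw [h16, Nat.card_prod, Nat.card_perm] at h
    have h48 : Nat.card (Multiplicative (ZMod 2)) * Nat.factorial (Nat.card (Fin 4)) = 48 := by
      simp [Nat.factorial]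
    rw [h48] at h
    omega)

theorem mem_stdSylow (p : K) : p ∈ (stdSylow : Subgroup K) ↔ p.2 * dlt = dlt * p.2 := by
  show p ∈ (⊤ : Subgroup (Multiplicative (ZMod 2))).prod (centralizer ({dlt} : Set _)) ↔ _
  rw [Subgroup.mem_prod, mem_centralizer_singleton_iff]
  simp

/-- The hypotheses of the characterisation give the data. -/
theorem exists_data {G : Type*} [Group G] [Finite G] (t : G) (ht : orderOf t = 2) (T : Sylow 2 G)
    (htc : ∀ s ∈ (T : Subgroup G), s * t = t * s) (e : ↥(centralizer ({t} : Set G)) ≃* K)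
    (h2 : centralizer ((⁅(T : Subgroup G), (T : Subgroup G)⁆ : Subgroup G) : Set G) = (T : Subgroup G)) :
    ∃ E : Data G, E.t = t := by
  have : Fact (Nat.Prime 2) := ⟨Nat.prime_two⟩
  set C := centralizer ({t} : Set G)
  have hTC : (T : Subgroup G) ≤ C := fun g hg => mem_centralizer_singleton_iff.2 (htc g hg)
  obtain ⟨c, hc⟩ := MulAction.exists_smul_eq K
    ((T.subtype hTC).mapSurjective (f := e.toMonoidHom) e.surjective) stdSylow
  let inc : K →* G := C.subtype.comp (e.symm.toMonoidHom.comp (MulAut.conj c⁻¹).toMonoidHom)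
  have hinj : Function.Injective inc :=
    C.subtype_injective.comp (e.symm.injective.comp (MulAut.conj c⁻¹).injective)
  have hex : ∀ g : G, Commute g t → ∃ p, inc p = g := fun g hg =>
    ⟨c * e ⟨g, mem_centralizer_singleton_iff.2 hg.eq⟩ * c⁻¹, by simp [inc, mul_assoc]⟩
  have hcomm : ∀ p, Commute (inc p) t := fun p =>
    mem_centralizer_singleton_iff.1 (e.symm (c⁻¹ * p * c⁻¹⁻¹)).2
  have hneg : inc (neg, 1) = t := by
    obtain ⟨⟨a, σ⟩, hp⟩ := hex t (Commute.refl t)
    obtain rfl : σ = 1 := center_trivial σ fun π => congrArg Prod.snd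
      (hinj (by rw [map_mul, map_mul, hp]; exact (hcomm (1, π)).eq) : ((1, π) : K) * (a, σ) = (a, σ) * (1, π))
    rcases two_cases a with rfl | rfl
    · rw [show ((1, 1) : K) = 1 from rfl, map_one] at hp
      rw [← hp, orderOf_one] at ht
      omega
    · exact hp
  have hmem : ∀ p : K, inc p ∈ (T : Subgroup G) ↔ p.2 * dlt = dlt * p.2 := by
    intro p
    rw [← mem_stdSylow, ← hc, Sylow.coe_subgroup_smul, Subgroup.mem_pointwise_smul_iff_inv_smul_mem]
    show _ ↔ _ ∈ ((T : Subgroup G).subgroupOf C).map e.toMonoidHom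
    rw [Subgroup.mem_map_equiv, Subgroup.mem_subgroupOf]
    simp [inc, MulAut.smul_def, MulAut.conj_apply, mul_assoc]
  refine ⟨⟨t, T, inc, hinj, hneg, hex, hmem, fun g hg => htc g hg, fun g hg => ?_⟩, rfl⟩
  have hle : ⁅(T : Subgroup G), (T : Subgroup G)⁆ ≤ zpowers (inc (1, dlt)) := by
    refine commutator_le.2 fun x hx y hy => ?_
    obtain ⟨p, rfl⟩ := hex x (htc x hx)
    obtain ⟨q, rfl⟩ := hex y (htc y hy)
    rw [commutatorElement_def, ← map_inv, ← map_inv, ← map_mul, ← map_mul, ← map_mul]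
    have h1 : (p * q * p⁻¹ * q⁻¹).1 = 1 := by simp
    rcases commutator_in_sylow p.2 ((hmem p).1 hx) q.2 ((hmem q).1 hy) with h | h
    · rw [show p * q * p⁻¹ * q⁻¹ = 1 from Prod.ext h1 h, map_one]
      exact one_mem _
    · rw [show p * q * p⁻¹ * q⁻¹ = ((1, dlt) : K) from Prod.ext h1 h]
      exact mem_zpowers _
  rw [← h2]
  refine mem_centralizer_iff.2 fun y hy => ?_
  obtain ⟨i, rfl⟩ := mem_zpowers_iff.1 (hle hy)
  exact (hg.zpow_right i).eq.symm

end Cfsg.Agent.H64.CentSym
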