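import Cfsg.Agent.H64.CentSym.Basic
import Cfsg.Agent.Cores.GlaubermanZStar
import Cfsg.Agent.Cores.PCore

/-!
Fusion of involutions for a centraliser `Z₂ × S₄`: either `t` is central or there is a homomorphism onto `Z₂`
not killing `t`.
-/

set_option autoImplicit false

namespace Cfsg.Agent.H64.CentSym

open Subgroup

/-- The double transposition commuting with `tsw`. -/
abbrev dOne : Equiv.Perm (Fin 4) := Equiv.swap 0 1 * Equiv.swap 2 3

/-- The sign as a homomorphism to `Z₂`. -/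
def sgnC : Equiv.Perm (Fin 4) →* Multiplicative (ZMod 2) :=
  MonoidHom.mk' (fun σ => if Equiv.Perm.sign σ = 1 then 1 else neg) (by decide +kernel)

theorem sgnC_of_transposition : ∀ σ : Equiv.Perm (Fin 4), (∃ π, π * σ * π⁻¹ = tsw) → sgnC σ = neg := by
  decide +kernel

theorem exists_commutator_dlt : ∃ σ π : Equiv.Perm (Fin 4),
    σ * dlt = dlt * σ ∧ π * dlt = dlt * π ∧ σ * π * σ⁻¹ * π⁻¹ = dlt := by decide +kernel

theorem double_prod : ∃ π : Equiv.Perm (Fin 4),
    π * (dlt * (Equiv.swap 0 1 * Equiv.swap 2 3)) * π⁻¹ = dlt := by decide +kernel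

/-- Transfer into a group of order two. -/
theorem exists_hom_of_forall {G : Type*} [Group G] [Finite G] (S : Sylow 2 G)
    (φ : ↥(S : Subgroup G) →* Multiplicative (ZMod 2)) (y : G) (hy : y * y = 1)
    (h : ∀ (g : G) (hg : g⁻¹ * y * g ∈ (S : Subgroup G)), φ ⟨g⁻¹ * y * g, hg⟩ = neg) :
    ∃ f : G →* Multiplicative (ZMod 2), f y = neg := by
  classical
  have : Fact (Nat.Prime 2) := ⟨Nat.prime_two⟩
  have : Fintype (G ⧸ (S : Subgroup G)) := Fintype.ofFinite _
  refine ⟨MonoidHom.transfer φ, ?_⟩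
  have : Fintype (Quotient (MulAction.orbitRel (zpowers y) (G ⧸ (S : Subgroup G)))) := Fintype.ofFinite _
  rw [MonoidHom.transfer_eq_prod_quotient_orbitRel_zpowers_quot φ y]
  have hy2 : y ^ 2 = 1 := by rw [pow_two, hy]
  have hper : ∀ q : G ⧸ (S : Subgroup G), Function.minimalPeriod (y • ·) q ∣ 2 := fun q =>
    Function.IsPeriodicPt.minimalPeriod_dvd (show (y • ·)^[2] q = q by
      rw [smul_iterate, hy2]; exact one_smul G q)
  have hterm : ∀ o : Quotient (MulAction.orbitRel (zpowers y) (G ⧸ (S : Subgroup G))),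
      φ ⟨o.out.out⁻¹ * y ^ Function.minimalPeriod (y • ·) o.out * o.out.out,
        QuotientGroup.out_conj_pow_minimalPeriod_mem (S : Subgroup G) y o.out⟩ =
      neg ^ Function.minimalPeriod (y • ·) o.out := by
    intro o
    rcases (Nat.dvd_prime Nat.prime_two).1 (hper o.out) with h1 | h1
    · have hm := QuotientGroup.out_conj_pow_minimalPeriod_mem (S : Subgroup G) y o.out
      simp only [h1, pow_one] at hm ⊢
      exact h _ hm
    · refine ((congrArg φ (Subtype.ext (show _ = (1 : G) from ?_))).trans (map_one φ)).trans ?_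
      · simp only [h1, hy2]
        group
      · rw [h1]; rfl
  rw [Finset.prod_congr rfl fun o _ => hterm o, Finset.prod_pow_eq_pow_sum]
  have hsum : ∑ o : Quotient (MulAction.orbitRel (zpowers y) (G ⧸ (S : Subgroup G))),
      Function.minimalPeriod (y • ·) o.out = (S : Subgroup G).index := by
    rw [Subgroup.index_eq_card, Nat.card_congr (MulAction.selfEquivSigmaOrbits (zpowers y) _), Nat.card_sigma]
    refine Finset.sum_congr rfl fun o _ => ?_
    rw [MulAction.minimalPeriod_eq_card, Nat.card_eq_fintype_card]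
    exact Fintype.card_congr (Equiv.refl _)
  obtain ⟨k, hk⟩ := Nat.odd_iff.2 (Nat.two_dvd_ne_zero.1 (Sylow.not_dvd_index S))
  rw [hsum, hk, pow_succ, pow_mul]
  simp [show neg ^ 2 = 1 from rfl]

namespace Data

variable {G : Type*} [Group G] (E : Data G)

/-- The involution central in `T` inside the derived subgroup. -/
def z : G := E.inc (1, dlt)

theorem commute_inc (p : K) : Commute (E.inc p) E.t := by
  rw [← E.inc_neg]
  refine Commute.map ?_ E.inc
  exact Prod.ext (mul_comm _ _) (by simp)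

theorem t_ne_one : E.t ≠ 1 := fun h => by
  have := E.inj ((E.inc_neg.trans h).trans (map_one E.inc).symm)
  exact absurd (congrArg Prod.fst this) (by decide)

theorem t_sq : E.t * E.t = 1 := by
  rw [← E.inc_neg, ← map_mul, ← map_one E.inc]; rfl

theorem z_mem : E.z ∈ (E.T : Subgroup G) := (E.memT _).2 rfl

theorem z_ne_one : E.z ≠ 1 := fun h => by
  have := E.inj ((show E.inc (1, dlt) = 1 from h).trans (map_one E.inc).symm)
  exact absurd (congrArg Prod.snd this) (by decide)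

theorem z_sq : E.z * E.z = 1 := by
  rw [z, ← map_mul, ← map_one E.inc]
  exact congrArg E.inc (Prod.ext rfl (show dlt * dlt = 1 by decide +kernel))

theorem commute_t_of_commute_z {g : G} (h : Commute g E.z) : Commute g E.t :=
  E.commute_of_memT g (E.centz g h)

theorem commute_inc_of_central {a : Multiplicative (ZMod 2)} {σ : Equiv.Perm (Fin 4)}
    (hσ : σ = 1 ∨ σ = dlt) : E.inc (a, σ) ∈ centralizer (E.T : Set G) := by
  refine mem_centralizer_iff.2 fun g hg => ?_
  obtain ⟨p, rfl⟩ := E.exists_inc g (E.commute_of_memT g hg)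
  rw [← map_mul, ← map_mul]
  congr 1
  refine Prod.ext (mul_comm _ _) ?_
  rcases hσ with rfl | rfl
  · simp
  · exact (E.memT p).1 hg

variable [Finite G]

theorem eq_of_central {u v : G} (hu : u ∈ centralizer (E.T : Set G)) (hv : v ∈ centralizer (E.T : Set G))
    (h : IsConj u v) : u = v := by
  have : Fact (Nat.Prime 2) := ⟨Nat.prime_two⟩
  obtain ⟨g, hg⟩ := isConj_iff.1 h
  obtain ⟨n, hn, hnu⟩ := Sylow.conj_eq_normalizer_conj_of_mem_centralizer E.T u g⁻¹ hu
    (by rw [inv_inv, hg]; exact hv)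
  rw [inv_inv, hg] at hnu
  have hnz : Commute n E.z := by
    obtain ⟨σ, π, hσ, hπ, hσπ⟩ := exists_commutator_dlt
    have hz : E.z = E.inc (1, σ) * E.inc (1, π) * (E.inc (1, σ))⁻¹ * (E.inc (1, π))⁻¹ := by
      rw [← map_inv, ← map_inv, ← map_mul, ← map_mul, ← map_mul, z]
      simp [hσπ]
    have hc : ∀ q : K, q.2 * dlt = dlt * q.2 → n * E.inc q * n⁻¹ ∈ (E.T : Subgroup G) := fun q hq =>
      (mem_normalizer_iff.1 hn _).1 ((E.memT q).2 hq)
    obtain ⟨p, hp⟩ := E.exists_inc _ (E.commute_of_memT _ (hc (1, σ) hσ))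
    obtain ⟨q, hq⟩ := E.exists_inc _ (E.commute_of_memT _ (hc (1, π) hπ))
    have hp' := (E.memT p).1 (hp ▸ hc (1, σ) hσ)
    have hq' := (E.memT q).1 (hq ▸ hc (1, π) hπ)
    have e : n * E.z * n⁻¹ = E.inc (p * q * p⁻¹ * q⁻¹) := by
      rw [map_mul, map_mul, map_mul, map_inv, map_inv, hp, hq, hz]
      group
    have h1 : (p * q * p⁻¹ * q⁻¹).1 = 1 := by simp
    rcases commutator_in_sylow p.2 hp' q.2 hq' with h2 | h2
    · rw [show p * q * p⁻¹ * q⁻¹ = 1 from Prod.ext h1 h2, map_one] at e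
      exact absurd (conj_eq_one_iff.1 e) E.z_ne_one
    · rw [show p * q * p⁻¹ * q⁻¹ = ((1, dlt) : K) from Prod.ext h1 h2] at e
      exact mul_inv_eq_iff_eq_mul.1 e
  have hnT := E.centz n hnz
  rw [hnu]
  have := mem_centralizer_iff.1 hu n hnT
  rw [mul_assoc, ← this, inv_mul_cancel_left]

theorem not_conj_t_z : ¬ IsConj E.t E.z := fun h => by
  rw [← E.inc_neg] at h
  have e := E.eq_of_central (E.commute_inc_of_central (Or.inl rfl)) (E.commute_inc_of_central (Or.inr rfl)) h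
  exact absurd (congrArg Prod.fst (E.inj e)) (by decide)

theorem not_conj_central {a b : Multiplicative (ZMod 2)} {σ ρ : Equiv.Perm (Fin 4)}
    (hσ : σ = 1 ∨ σ = dlt) (hρ : ρ = 1 ∨ ρ = dlt) (h : IsConj (E.inc (a, σ)) (E.inc (b, ρ))) : a = b ∧ σ = ρ :=
  Prod.ext_iff.1 (E.inj (E.eq_of_central (E.commute_inc_of_central hσ) (E.commute_inc_of_central hρ) h))

omit [Finite G] in
theorem isConj_inc (a : Multiplicative (ZMod 2)) {σ ρ : Equiv.Perm (Fin 4)} (h : ∃ π, π * σ * π⁻¹ = ρ) :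
    IsConj (E.inc (a, σ)) (E.inc (a, ρ)) := by
  obtain ⟨π, rfl⟩ := h
  refine isConj_iff.2 ⟨E.inc (1, π), ?_⟩
  rw [← map_inv, ← map_mul, ← map_mul]
  simp

/-- The conjugates of `t` in its centraliser. -/
theorem conj_t_cases (p : K) (h : IsConj E.t (E.inc p)) :
    p = (neg, 1) ∨ ((∃ π, π * p.2 * π⁻¹ = tsw) ∧ IsConj E.t (E.inc (p.1, tsw))) := by
  obtain ⟨a, σ⟩ := p
  obtain ⟨g, hg⟩ := isConj_iff.1 h
  have hσ2 : σ * σ = 1 := by
    have h2 : E.inc ((a, σ) * (a, σ)) = E.inc 1 := by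
      rw [map_mul, ← hg, map_one]
      calc g * E.t * g⁻¹ * (g * E.t * g⁻¹) = g * (E.t * E.t) * g⁻¹ := by group
        _ = 1 := by rw [E.t_sq]; group
    exact congrArg Prod.snd (E.inj h2)
  rcases invol_cases σ hσ2 with rfl | hσ | hσ
  · rw [← E.inc_neg] at h
    obtain ⟨h1, -⟩ := E.not_conj_central (Or.inl rfl) (Or.inl rfl) h
    exact Or.inl (by rw [h1])
  · have h' := h.trans (E.isConj_inc a hσ)
    rw [← E.inc_neg] at h'
    exact absurd (E.not_conj_central (Or.inl rfl) (Or.inr rfl) h').2 (by decide)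
  · exact Or.inr ⟨hσ, h.trans (E.isConj_inc a hσ)⟩

/-- `t` is not conjugate to both `(1, transposition)` and `(neg, transposition)`. -/
theorem not_both (h1 : ∀ a : Multiplicative (ZMod 2), IsConj E.t (E.inc (a, tsw))) : False := by
  obtain ⟨g₀, hg₀⟩ := isConj_iff.1 (h1 1).symm
  have hτ : Commute (E.inc (1, tsw)) E.t := E.commute_inc _
  have ht' : Commute (g₀ * E.t * g₀⁻¹) E.t := by
    have := hτ.symm.map (MulAut.conj g₀).toMonoidHom
    simpa [hg₀] using this
  obtain ⟨⟨a, σ⟩, hp⟩ := E.exists_inc _ ht'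
  rcases E.conj_t_cases (a, σ) (isConj_iff.2 ⟨g₀, hp.symm⟩) with h | ⟨⟨π, hπ⟩, -⟩
  · rw [h, E.inc_neg] at hp
    have e : g₀ * E.t * g₀⁻¹ = g₀ * E.inc (1, tsw) * g₀⁻¹ := by rw [← hp, hg₀]
    have := mul_left_cancel (mul_right_cancel e)
    rw [← E.inc_neg] at this
    exact absurd (congrArg Prod.snd (E.inj this)) (by decide)
  set g := E.inc (1, π) * g₀ with hgdef
  have hgτ : g * E.inc (1, tsw) * g⁻¹ = E.t := by
    calc g * E.inc (1, tsw) * g⁻¹ = E.inc (1, π) * (g₀ * E.inc (1, tsw) * g₀⁻¹) * (E.inc (1, π))⁻¹ := by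
          rw [hgdef]; group
      _ = E.t := by rw [hg₀, (E.commute_inc (1, π)).eq, mul_inv_cancel_right]
  have hgt : g * E.t * g⁻¹ = E.inc (a, tsw) := by
    calc g * E.t * g⁻¹ = E.inc (1, π) * (g₀ * E.t * g₀⁻¹) * (E.inc (1, π))⁻¹ := by rw [hgdef]; group
      _ = E.inc (a, tsw) := by
        rw [← hp, ← map_inv, ← map_mul, ← map_mul]
        simp [hπ]
  have hz0 : IsConj (E.inc (1, dOne)) E.z := E.isConj_inc 1 double_conj
  have hwt : Commute (g * E.inc (1, dOne) * g⁻¹) E.t := by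
    have hc : Commute (E.inc (1, dOne)) (E.inc (1, tsw)) :=
      Commute.map (show Commute ((1, dOne) : K) (1, tsw) from Prod.ext rfl (show dOne * tsw = tsw * dOne by decide +kernel)) E.inc
    have := hc.map (MulAut.conj g).toMonoidHom
    simpa [hgτ] using this
  obtain ⟨⟨b, ρ⟩, hw⟩ := E.exists_inc _ hwt
  have hwa : ρ * tsw = tsw * ρ := by
    have hc : Commute (E.inc (b, ρ)) (E.inc (a, tsw)) := by
      rw [hw, ← hgt]
      have := (E.commute_inc (1, dOne)).map (MulAut.conj g).toMonoidHom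
      simpa using this
    have hc' := hc.eq
    rw [← map_mul, ← map_mul] at hc'
    exact congrArg Prod.snd (E.inj hc')
  have hwz : IsConj (E.inc (b, ρ)) E.z := by
    rw [hw]
    exact (isConj_iff.2 ⟨g⁻¹, by group⟩ : IsConj (g * E.inc (1, dOne) * g⁻¹) (E.inc (1, dOne))).trans hz0
  have hρ2 : ρ * ρ = 1 := by
    obtain ⟨c, hc⟩ := isConj_iff.1 hwz.symm
    have h2 : E.inc ((b, ρ) * (b, ρ)) = E.inc 1 := by
      rw [map_mul, ← hc, map_one]
      calc c * E.z * c⁻¹ * (c * E.z * c⁻¹) = c * (E.z * E.z) * c⁻¹ := by group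
        _ = 1 := by rw [E.z_sq]; group
    exact congrArg Prod.snd (E.inj h2)
  rcases invol_cases ρ hρ2 with rfl | hρ | hρ
  · exact absurd (E.not_conj_central (Or.inl rfl) (Or.inr rfl) hwz).2 (by decide)
  · obtain rfl : b = 1 := (E.not_conj_central (Or.inr rfl) (Or.inr rfl) ((E.isConj_inc b hρ).symm.trans hwz)).1
    obtain rfl : ρ = dOne := double_of_commute ρ hρ hwa
    have hgz : Commute g (E.inc (1, dOne)) := mul_inv_eq_iff_eq_mul.1 hw.symm
    obtain ⟨π₀, hπ₀⟩ := double_conj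
    have hcz : Commute (E.inc (1, π₀) * g * (E.inc (1, π₀))⁻¹) E.z := by
      have := hgz.map (MulAut.conj (E.inc (1, π₀))).toMonoidHom
      have e : E.inc (1, π₀) * E.inc (1, dOne) * (E.inc (1, π₀))⁻¹ = E.z := by
        rw [← map_inv, ← map_mul, ← map_mul, z]
        simp [dOne, hπ₀]
      simpa [e] using this
    have hct := (E.commute_t_of_commute_z hcz).map (MulAut.conj (E.inc (1, π₀))⁻¹).toMonoidHom
    have hgt' : Commute g E.t := by
      have e : (E.inc (1, π₀))⁻¹ * E.t * E.inc (1, π₀) = E.t := by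
        rw [mul_assoc, ← (E.commute_inc (1, π₀)).eq, inv_mul_cancel_left]
      simpa [e, mul_assoc] using hct
    rw [hgt'.eq, mul_inv_cancel_right, ← E.inc_neg] at hgt
    exact absurd (congrArg Prod.snd (E.inj hgt)) (show (1 : Equiv.Perm (Fin 4)) ≠ tsw by decide +kernel)
  · exact E.not_conj_t_z ((h1 b).trans ((E.isConj_inc b hρ).symm.trans hwz))

include E in
theorem oddCore_eq_bot : Cfsg.oddCore G = ⊥ := by
  refine eq_bot_iff.2 fun x hx => mem_bot.2 ?_
  have hodd : ∀ y ∈ Cfsg.oddCore G, y * y = 1 → y = 1 := by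
    intro y hy hy2
    have h1 : orderOf y ∣ Nat.card ↥(Cfsg.oddCore G) := Subgroup.orderOf_dvd_natCard _ hy
    have h2 : orderOf y ∣ 2 := orderOf_dvd_of_pow_eq_one (by rw [pow_two, hy2])
    rw [← orderOf_eq_one_iff]
    exact Nat.eq_one_of_dvd_coprimes (Nat.coprime_two_right.2 Cores.odd_card_oddCore) h1 h2
  have hn : ∀ g : G, ∀ y ∈ Cfsg.oddCore G, g * y * g⁻¹ ∈ Cfsg.oddCore G := fun g y hy =>
    (inferInstance : (Cfsg.oddCore G).Normal).conj_mem y hy g
  let φ : ↥(Cfsg.oddCore G) → ↥(Cfsg.oddCore G) := fun y => ⟨E.z * y * E.z⁻¹, hn _ _ y.2⟩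
  let φh : ↥(Cfsg.oddCore G) →* ↥(Cfsg.oddCore G) :=
    MonoidHom.mk' φ fun a b => Subtype.ext (by simp [φ, mul_assoc])
  have hfpf : MonoidHom.FixedPointFree φh := by
    intro y hy
    have hc : Commute (y : G) E.z := (mul_inv_eq_iff_eq_mul.1 (congrArg Subtype.val hy)).symm
    obtain ⟨k, hk⟩ := IsPGroup.iff_orderOf.1 E.T.isPGroup' ⟨(y : G), E.centz _ hc⟩
    rw [Subgroup.orderOf_mk] at hk
    have h1 : orderOf (y : G) ∣ Nat.card ↥(Cfsg.oddCore G) := Subgroup.orderOf_dvd_natCard _ y.2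
    refine Subtype.ext (orderOf_eq_one_iff.1 (Nat.eq_one_of_dvd_coprimes ?_ h1 (dvd_of_eq hk)))
    exact Nat.Coprime.pow_right k (Nat.coprime_two_right.2 Cores.odd_card_oddCore)
  have hinv : Function.Involutive φh := fun y => Subtype.ext <| by
    show E.z * (E.z * y * E.z⁻¹) * E.z⁻¹ = y
    calc E.z * (E.z * y * E.z⁻¹) * E.z⁻¹ = E.z * E.z * y * (E.z * E.z)⁻¹ := by group
      _ = y := by rw [E.z_sq]; group
  have hz : ∀ y ∈ Cfsg.oddCore G, E.z * y * E.z⁻¹ = y⁻¹ := fun y hy =>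
    congrArg Subtype.val (congrFun (MonoidHom.FixedPointFree.coe_eq_inv_of_involutive hfpf hinv) ⟨y, hy⟩)
  have hconj : ∀ u : G, IsConj E.z u → ∀ y ∈ Cfsg.oddCore G, u * y * u⁻¹ = y⁻¹ := by
    intro u hu y hy
    obtain ⟨g, rfl⟩ := isConj_iff.1 hu
    calc g * E.z * g⁻¹ * y * (g * E.z * g⁻¹)⁻¹ = g * (E.z * (g⁻¹ * y * g⁻¹⁻¹) * E.z⁻¹) * g⁻¹ := by group
      _ = g * (g⁻¹ * y * g⁻¹⁻¹)⁻¹ * g⁻¹ := by rw [hz _ (hn g⁻¹ y hy)]
      _ = y⁻¹ := by group
  have hu1 : IsConj E.z (E.inc (1, dOne)) := (E.isConj_inc 1 double_conj).symm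
  have hu2 : IsConj E.z (E.z * E.inc (1, dOne)) := by
    rw [z, ← map_mul]
    exact (E.isConj_inc 1 double_prod).symm
  refine hodd x hx (inv_eq_iff_mul_eq_one.1 ?_)
  calc x⁻¹ = E.z * E.inc (1, dOne) * x * (E.z * E.inc (1, dOne))⁻¹ := (hconj _ hu2 x hx).symm
    _ = E.z * (E.inc (1, dOne) * x * (E.inc (1, dOne))⁻¹) * E.z⁻¹ := by group
    _ = x := by rw [hconj _ hu1 x hx, hz _ (inv_mem hx), inv_inv]

/-- Either `t` is central or some homomorphism onto `Z₂` moves it, in which case `t` is fused with one kind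
of transposition. -/
theorem dichotomy : (∀ g : G, Commute g E.t) ∨
    ((∃ f : G →* Multiplicative (ZMod 2), f E.t = neg) ∧
      ∃ a, IsConj E.t (E.inc (a, tsw))) := by
  classical
  have : Fact (Nat.Prime 2) := ⟨Nat.prime_two⟩
  have hinT : E.t ∈ (E.T : Subgroup G) := by
    rw [← E.inc_neg, E.memT]
    simp
  by_cases hfus : ∃ a, IsConj E.t (E.inc (a, tsw))
  · refine Or.inr ⟨?_, hfus⟩
    obtain ⟨a, ha⟩ := hfus
    let χ : K →* Multiplicative (ZMod 2) :=
      if a = 1 then MonoidHom.fst _ _ * sgnC.comp (MonoidHom.snd _ _) else MonoidHom.fst _ _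
    have hle : (E.T : Subgroup G) ≤ E.inc.range := fun g hg => E.exists_inc g (E.commute_of_memT g hg)
    let φ : ↥(E.T : Subgroup G) →* Multiplicative (ZMod 2) :=
      χ.comp ((MonoidHom.ofInjective E.inj).symm.toMonoidHom.comp (Subgroup.inclusion hle))
    refine exists_hom_of_forall E.T φ E.t E.t_sq fun g hg => ?_
    obtain ⟨p, hp⟩ := E.exists_inc _ (E.commute_of_memT _ hg)
    have hφ : φ ⟨g⁻¹ * E.t * g, hg⟩ = χ p := by
      refine congrArg χ ?_
      show (MonoidHom.ofInjective E.inj).symm ⟨_, hle hg⟩ = p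
      rw [MulEquiv.symm_apply_eq]
      exact Subtype.ext hp.symm
    rw [hφ]
    have hbc : a = 1 → ∀ b, IsConj E.t (E.inc (b, tsw)) → b = 1 := by
      intro ha1 b hb
      by_contra hb1
      refine E.not_both fun c => ?_
      rcases two_cases c with rfl | rfl
      · exact ha1 ▸ ha
      · exact (two_cases b).resolve_left hb1 ▸ hb
    have hbc' : a = neg → ∀ b, IsConj E.t (E.inc (b, tsw)) → b = neg := by
      intro ha1 b hb
      by_contra hb1
      refine E.not_both fun c => ?_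
      rcases two_cases c with rfl | rfl
      · exact (two_cases b).resolve_right hb1 ▸ hb
      · exact ha1 ▸ ha
    rcases E.conj_t_cases p (isConj_iff.2 ⟨g⁻¹, by rw [inv_inv, hp]⟩) with rfl | ⟨hσ, hb⟩
    · rcases two_cases a with rfl | rfl
      · simp [χ]
      · simp [χ]
    · rcases two_cases a with rfl | rfl
      · simp [χ, sgnC_of_transposition _ hσ, hbc rfl _ hb]
      · simp [χ, hbc' rfl _ hb]
  · left
    have hiso : ∀ g : G, g * E.t * g⁻¹ ∈ (E.T : Subgroup G) → g * E.t * g⁻¹ = E.t := by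
      intro g hg
      obtain ⟨p, hp⟩ := E.exists_inc _ (E.commute_of_memT _ hg)
      rcases E.conj_t_cases p (isConj_iff.2 ⟨g, hp.symm⟩) with rfl | ⟨-, hb⟩
      · rw [← hp, E.inc_neg]
      · exact absurd ⟨_, hb⟩ hfus
    intro g
    have h := Cores.glaubermanZStar E.T (orderOf_eq_prime (by rw [pow_two, E.t_sq]) E.t_ne_one) hinT hiso g
    rw [E.oddCore_eq_bot, mem_bot] at h
    exact (mul_inv_eq_iff_eq_mul.1 (mul_inv_eq_one.1 h)).symm

end Data

end Cfsg.Agent.H64.CentSym
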