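import Cfsg.Agent.H64.CentSym.Fusion
import Cfsg.Agent.H64.CentSym.AltSix
import Cfsg.Agent.S3035
import Cfsg.Agent.Linear.Order
import Cfsg.Agent.H26.Invol
import Cfsg.Agent.H77.MaximalIndex

/-!
A group with an involution centraliser `Z₂ × S₄` as in `CentSym.Data` is that centraliser or is `S₆`.
-/

set_option autoImplicit false

namespace Cfsg.Agent.H64.CentSym

open Subgroup

/-- The dihedral group of order eight inside `S₄`. -/
def dih : DihedralGroup 4 →* Equiv.Perm (Fin 4) :=
  MonoidHom.mk' (fun d => match d with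
    | .r i => (finRotate 4) ^ i.val
    | .sr i => Equiv.swap 0 2 * (finRotate 4) ^ i.val) (by decide +kernel)

theorem dih_spec : Function.Injective dih ∧ (∀ d, dih d * dlt = dlt * dih d) ∧
    ∀ σ : Equiv.Perm (Fin 4), σ * dlt = dlt * σ → ∃ d, dih d = σ := by decide +kernel

theorem three_cycle : (Equiv.swap 0 1 * Equiv.swap 1 2 : Equiv.Perm (Fin 4)) ^ 3 = 1 ∧
    (Equiv.swap 0 1 * Equiv.swap 1 2 : Equiv.Perm (Fin 4)) ≠ 1 := by decide +kernel

theorem card_transposition :
    Fintype.card {σ : Equiv.Perm (Fin 4) // ∃ π, π * σ * π⁻¹ = tsw} = 6 := by decide +kernel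

theorem transposition_two : ∃ π : Equiv.Perm (Fin 4), π * Equiv.swap 0 2 * π⁻¹ = tsw := by decide +kernel

theorem sgnC_dlt : sgnC dlt = 1 := by decide +kernel

/-- A normal subgroup of the symmetric group of degree five of order dividing 24 is trivial. -/
theorem eq_bot_of_perm_five (N : Subgroup (Equiv.Perm (Fin 5))) [N.Normal] (h : Nat.card ↥N ∣ 24) : N = ⊥ := by
  classical
  have : IsSimpleGroup ↥(alternatingGroup (Fin 5)) := alternatingGroup.isSimpleGroup (by simp)
  have hinf : N ⊓ alternatingGroup (Fin 5) = ⊥ := by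
    rcases (inferInstance : (N.subgroupOf (alternatingGroup (Fin 5))).Normal).eq_bot_or_eq_top with h' | h'
    · exact (Subgroup.subgroupOf_eq_bot.1 h').eq_bot
    · exfalso
      have h60 := (Subgroup.card_dvd_of_le (Subgroup.subgroupOf_eq_top.1 h')).trans h
      rw [nat_card_alternatingGroup, Nat.card_fin] at h60
      simp [Nat.factorial] at h60
  refine eq_bot_iff.2 fun x hx => mem_bot.2 ?_
  have hxc : x ∈ center (Equiv.Perm (Fin 5)) := mem_center_iff.2 fun y => by
    have hmem : y * x * y⁻¹ * x⁻¹ ∈ N ⊓ alternatingGroup (Fin 5) := by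
      refine mem_inf.2 ⟨mul_mem ((inferInstance : N.Normal).conj_mem x hx y) (inv_mem hx), ?_⟩
      rw [Equiv.Perm.mem_alternatingGroup]
      simp [mul_comm, mul_assoc, mul_left_comm]
    rw [hinf, mem_bot, mul_inv_eq_one] at hmem
    exact mul_inv_eq_iff_eq_mul.1 hmem
  have key : ∀ a b : Fin 5, a ≠ b → ∃ c, c ≠ a ∧ c ≠ b := by decide
  by_contra hne
  obtain ⟨a, ha⟩ : ∃ a, x a ≠ a := by
    by_contra hc
    push Not at hc
    exact hne (Equiv.ext hc)
  obtain ⟨c, hca, hcb⟩ := key a (x a) (Ne.symm ha)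
  have h' := congrArg (fun σ : Equiv.Perm (Fin 5) => σ a) (mem_center_iff.1 hxc (Equiv.swap (x a) c))
  simp [Equiv.swap_apply_of_ne_of_ne (Ne.symm ha) (Ne.symm hca)] at h'
  exact hcb h'

namespace Data

variable {G : Type*} [Group G] [Finite G] (E : Data G)

omit [Finite G] in
theorem card_centralizer : Nat.card ↥(centralizer ({E.t} : Set G)) = 48 := by
  have h : centralizer ({E.t} : Set G) = E.inc.range := by
    ext g
    rw [mem_centralizer_singleton_iff]
    exact ⟨fun hg => E.exists_inc g hg, fun ⟨p, hp⟩ => hp ▸ (E.commute_inc p).eq⟩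
  rw [h, ← Nat.card_congr (MonoidHom.ofInjective E.inj).toEquiv, Nat.card_prod, Nat.card_perm]
  simp [Nat.factorial]

omit [Finite G] in
theorem card_centralizer_z : Nat.card ↥(centralizer ({E.z} : Set G)) ≤ 16 := by
  have hle : centralizer ({E.z} : Set G) ≤
      ((⊤ : Subgroup (Multiplicative (ZMod 2))).prod (centralizer ({dlt} : Set _))).map E.inc := by
    intro g hg
    have hgT := E.centz g (mem_centralizer_singleton_iff.1 hg)
    obtain ⟨p, rfl⟩ := E.exists_inc g (E.commute_of_memT g hgT)
    exact mem_map_of_mem _ (Subgroup.mem_prod.2 ⟨mem_top _, mem_centralizer_singleton_iff.2 ((E.memT p).1 hgT)⟩)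
  have : Finite ↥(((⊤ : Subgroup (Multiplicative (ZMod 2))).prod (centralizer ({dlt} : Set _))).map E.inc) :=
    Finite.of_equiv _ (Subgroup.equivMapOfInjective _ _ E.inj).toEquiv
  refine (card_le_of_le hle).trans (le_of_eq ?_)
  rw [card_map_of_injective E.inj, Nat.card_congr (Subgroup.prodEquiv _ _).toEquiv, Nat.card_prod,
    Subgroup.card_top, card_dlt_centralizer]
  simp

omit [Finite G] in
/-- No normal subgroup of a non-central case meets a subgroup of index two trivially. -/
theorem eq_bot_of_inf (hnc : ¬ ∀ g : G, Commute g E.t) {M : Subgroup G} (hM : M.index = 2) (N : Subgroup G)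
    (hN : N.Normal) (hNM : N ⊓ M = ⊥) : N = ⊥ := by
  refine eq_bot_iff.2 fun x hx => mem_bot.2 ?_
  by_contra hx1
  have huniq : ∀ y ∈ N, y ≠ 1 → y = x := by
    intro y hy hy1
    have hxM : x ∉ M := fun h => hx1 (by rw [← mem_bot, ← hNM]; exact mem_inf.2 ⟨hx, h⟩)
    have hyM : y ∉ M := fun h => hy1 (by rw [← mem_bot, ← hNM]; exact mem_inf.2 ⟨hy, h⟩)
    have h : y * x⁻¹ ∈ N ⊓ M := mem_inf.2 ⟨mul_mem hy (inv_mem hx),
      (mul_mem_iff_of_index_two hM).2 (iff_of_false hyM (fun h => hxM (inv_mem_iff.1 h)))⟩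
    rw [hNM, mem_bot, mul_inv_eq_one] at h
    exact h
  have hc : ∀ g : G, Commute g x := fun g => by
    refine mul_inv_eq_iff_eq_mul.1 (huniq _ (hN.conj_mem x hx g) ?_)
    rwa [Ne, conj_eq_one_iff]
  obtain ⟨⟨a, σ⟩, hp⟩ := E.exists_inc x (hc E.t).symm
  obtain rfl : σ = 1 := center_trivial σ fun π => congrArg Prod.snd
    (E.inj (by rw [map_mul, map_mul, hp]; exact (hc _).eq) : ((1, π) : K) * (a, σ) = (a, σ) * (1, π))
  rcases two_cases a with rfl | rfl
  · exact hx1 (by rw [← hp]; exact map_one E.inc)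
  · exact hnc (by rw [← E.inc_neg, hp]; exact hc)

theorem main : (∀ g : G, Commute g E.t) ∨ Nonempty (G ≃* Equiv.Perm (Fin 6)) := by
  classical
  have : Fintype G := Fintype.ofFinite G
  rcases E.dichotomy with h | ⟨⟨f, hf⟩, a, ha⟩
  · exact Or.inl h
  by_cases hnc : ∀ g : G, Commute g E.t
  · exact Or.inl hnc
  right
  set M := f.ker with hMdef
  have hM : M.index = 2 := by
    rw [hMdef, index_ker, MonoidHom.range_eq_top.2 ?_, card_top]
    · simp
    · intro b
      rcases two_cases b with rfl | rfl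
      · exact ⟨1, map_one f⟩
      · exact ⟨E.t, hf⟩
  have hMn : M.Normal := normal_of_index_eq_two hM
  have htM : E.t ∉ M := fun h => by
    rw [hMdef, MonoidHom.mem_ker, hf] at h
    exact absurd h (by decide)
  let ψ : Equiv.Perm (Fin 4) →* G :=
    MonoidHom.mk' (fun σ => E.inc (f (E.inc (1, σ)), σ)) fun σ π => by
      rw [← map_mul, Prod.mk_mul_mk, ← map_mul, ← map_mul, Prod.mk_mul_mk, one_mul]
  have hψi : Function.Injective ψ := fun σ π h => congrArg Prod.snd (E.inj h)
  have hψM : ∀ σ, ψ σ ∈ M := by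
    intro σ
    have e : ψ σ = E.inc (f (E.inc (1, σ)), 1) * E.inc (1, σ) := by
      rw [← map_mul]; exact congrArg E.inc (Prod.ext (mul_one _).symm (one_mul σ).symm)
    rw [hMdef, MonoidHom.mem_ker, e, map_mul]
    rcases two_cases (f (E.inc (1, σ))) with h | h
    · rw [h, show ((1, 1) : K) = 1 from rfl, map_one, map_one, one_mul]
    · rw [h, E.inc_neg, hf]; decide
  have hψc : ∀ σ, Commute (ψ σ) E.t := fun σ => E.commute_inc _
  have hψmem : ∀ g ∈ M, Commute g E.t → ∃ σ, ψ σ = g := by
    intro g hg hgt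
    obtain ⟨⟨b, σ⟩, rfl⟩ := E.exists_inc g hgt
    refine ⟨σ, congrArg E.inc (Prod.ext ?_ rfl)⟩
    have e : E.inc (b, σ) = E.inc (b, 1) * E.inc (1, σ) := by
      rw [← map_mul]; exact congrArg E.inc (Prod.ext (mul_one _).symm (one_mul σ).symm)
    rw [hMdef, MonoidHom.mem_ker, e, map_mul] at hg
    show f (E.inc (1, σ)) = b
    rcases two_cases b with rfl | rfl
    · rw [show ((1, 1) : K) = 1 from rfl, map_one, map_one, one_mul] at hg
      exact hg
    · rw [E.inc_neg, hf] at hg
      rcases two_cases (f (E.inc (1, σ))) with h | h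
      · rw [h, mul_one] at hg; exact absurd hg (by decide)
      · exact h
  have hzM : E.z ∈ M := by
    obtain ⟨σ, π, -, -, h⟩ := exists_commutator_dlt
    have e : E.z = E.inc (1, σ) * E.inc (1, π) * (E.inc (1, σ))⁻¹ * (E.inc (1, π))⁻¹ := by
      rw [← map_inv, ← map_inv, ← map_mul, ← map_mul, ← map_mul, z]
      simp [h]
    rw [hMdef, MonoidHom.mem_ker, e, map_mul, map_mul, map_mul, map_inv, map_inv]
    simp [mul_comm]
  let zM : ↥M := ⟨E.z, hzM⟩
  have hψz : ψ dlt = E.z := by
    have h1 : f (E.inc (1, dlt)) = 1 := (MonoidHom.mem_ker).1 hzM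
    show E.inc (f (E.inc (1, dlt)), dlt) = E.inc (1, dlt)
    rw [h1]
  -- the centraliser of `z` in `M` is dihedral
  let ω : DihedralGroup 4 →* ↥(centralizer ({zM} : Set ↥M)) :=
    (((ψ.comp dih).codRestrict M fun d => hψM _).codRestrict _ fun d => by
      rw [mem_centralizer_singleton_iff]
      refine Subtype.ext ?_
      show ψ (dih d) * E.z = E.z * ψ (dih d)
      rw [← hψz, ← map_mul, ← map_mul, dih_spec.2.1 d])
  have hω : Function.Bijective ω := by
    refine ⟨fun d d' h => dih_spec.1 (hψi (congrArg (fun x : ↥(centralizer ({zM} : Set ↥M)) => ((x : ↥M) : G)) h)), ?_⟩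
    rintro ⟨⟨g, hgM⟩, hg⟩
    rw [mem_centralizer_singleton_iff] at hg
    have hgT := E.centz g (congrArg Subtype.val hg)
    obtain ⟨σ, rfl⟩ := hψmem g hgM (E.commute_of_memT g hgT)
    obtain ⟨d, hd⟩ := dih_spec.2.2 σ ((E.memT _).1 hgT)
    exact ⟨d, Subtype.ext (Subtype.ext (congrArg ψ hd))⟩
  have hzo : orderOf zM = 2 := by
    rw [Subgroup.orderOf_mk]
    exact orderOf_eq_prime (by rw [pow_two, E.z_sq]) E.z_ne_one
  have hcardG : Nat.card G = Nat.card ↥M * 2 := by rw [← hM, M.card_mul_index]
  have h48 : 48 ≤ Nat.card G := by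
    rw [← E.card_centralizer]
    exact Nat.le_of_dvd Nat.card_pos (Subgroup.card_subgroup_dvd_card _)
  have hcl : Nat.card {g : G // IsConj E.t g} * 48 = Nat.card G := by
    rw [← E.card_centralizer, H26.card_conj_mul_card_centralizer]
  rcases Cfsg.Agent.S3035.result zM hzo ⟨(MulEquiv.ofBijective ω hω).symm⟩ with
    hcase | ⟨⟨e⟩⟩ | ⟨⟨e⟩⟩ | ⟨⟨e⟩⟩ | ⟨⟨e⟩⟩
  · exfalso
    have hOM : Cfsg.oddCore ↥M = ⊥ := by
      have : (Cfsg.oddCore ↥M).Characteristic := Cores.pPrimeCore_characteristic
      have h : (Cfsg.oddCore ↥M).map M.subtype ≤ Cfsg.oddCore G :=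
        Cores.le_oddCore (by rw [card_map_of_injective M.subtype_injective]; exact Cores.odd_card_oddCore)
      rw [E.oddCore_eq_bot, le_bot_iff, Subgroup.map_eq_bot_iff, Subgroup.ker_subtype, le_bot_iff] at h
      exact h
    rw [hOM, sup_bot_eq] at hcase
    have h8 : Nat.card ↥M = 8 := by
      rw [← Subgroup.card_top, ← hcase, ← Nat.card_congr (MulEquiv.ofBijective ω hω).toEquiv,
        Nat.card_eq_fintype_card, DihedralGroup.card]
    omega
  · refine absurd ?_ hnc
    intro g
    have h : centralizer ({E.t} : Set G) = ⊤ := eq_top_of_le_card _ (by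
      rw [E.card_centralizer, hcardG, Nat.card_congr e.toEquiv, Nat.card_perm, Nat.card_fin]
      simp [Nat.factorial])
    exact mem_centralizer_singleton_iff.1 (h ▸ mem_top g)
  · exfalso
    set C := centralizer ({E.t} : Set G)
    have hG : Nat.card G = 240 := by
      rw [hcardG, Nat.card_congr e.toEquiv, Nat.card_perm, Nat.card_fin]; rfl
    have hNbot : C.normalCore = ⊥ := by
      refine E.eq_bot_of_inf hnc hM _ C.normalCore_normal ?_
      have hNn : ((C.normalCore.subgroupOf M).map e.toMonoidHom).Normal :=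
        Subgroup.Normal.map inferInstance _ e.surjective
      have hdvd : Nat.card ↥((C.normalCore.subgroupOf M).map e.toMonoidHom) ∣ 24 := by
        rw [card_map_of_injective (show Function.Injective e.toMonoidHom from e.injective),
          ← card_map_of_injective M.subtype_injective, subgroupOf_map_subtype]
        let S : Subgroup G := ψ.range
        have hle : C.normalCore ⊓ M ≤ S := fun g hg => by
          obtain ⟨σ, hσ⟩ := hψmem g hg.2 (mem_centralizer_singleton_iff.1 (C.normalCore_le hg.1))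
          exact ⟨σ, hσ⟩
        refine (card_dvd_of_le hle).trans (dvd_of_eq ?_)
        rw [← Nat.card_congr (MonoidHom.ofInjective hψi).toEquiv, Nat.card_perm, Nat.card_fin]
        rfl
      have h := eq_bot_of_perm_five _ hdvd
      rw [map_eq_bot_iff_of_injective _ (show Function.Injective e.toMonoidHom from e.injective),
        subgroupOf_eq_bot] at h
      exact h.eq_bot
    have hinj : Function.Injective (MulAction.toPermHom G (G ⧸ C)) := by
      rw [← MonoidHom.ker_eq_bot_iff, ← normalCore_eq_ker, hNbot]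
    have h := Nat.card_le_card_of_injective _ hinj
    have hidx : Nat.card (G ⧸ C) = 5 := by
      have h' := C.card_mul_index
      rw [E.card_centralizer, hG, index_eq_card] at h'
      omega
    rw [hG, Nat.card_perm, hidx] at h
    simp [Nat.factorial] at h
  · exfalso
    have hX : Nat.card {g : G // IsConj E.t g} = 7 := by
      rw [hcardG, Nat.card_congr e.toEquiv, Linear.card_SL_three, ZMod.card] at hcl
      norm_num1 at hcl
      omega
    let m : Option {σ : Equiv.Perm (Fin 4) // ∃ π, π * σ * π⁻¹ = tsw} → {g : G // IsConj E.t g} := fun o =>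
      match o with
      | none => ⟨E.t, IsConj.refl _⟩
      | some σ => ⟨E.inc (a, σ.1), ha.trans (E.isConj_inc a σ.2).symm⟩
    have hm : Function.Bijective m := by
      refine (Nat.bijective_iff_injective_and_card m).2 ⟨?_, ?_⟩
      · rintro (_ | σ) (_ | π) h
        · rfl
        · exfalso
          have h' := congrArg Prod.snd (E.inj (E.inc_neg.trans (congrArg Subtype.val h)))
          obtain ⟨ρ, hρ⟩ := π.2
          rw [show π.1 = 1 from h'.symm, mul_one, mul_inv_cancel] at hρ
          exact absurd hρ (by decide +kernel)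
        · exfalso
          have h' := congrArg Prod.snd (E.inj ((congrArg Subtype.val h).trans E.inc_neg.symm))
          obtain ⟨ρ, hρ⟩ := σ.2
          rw [show σ.1 = 1 from h', mul_one, mul_inv_cancel] at hρ
          exact absurd hρ (by decide +kernel)
        · exact congrArg some (Subtype.ext (congrArg Prod.snd (E.inj (congrArg Subtype.val h))))
      · rw [hX, Finite.card_option, Nat.card_eq_fintype_card, card_transposition]
    have hall : ∀ g : G, IsConj E.t g → Commute g E.t := by
      intro g hg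
      obtain ⟨o, ho⟩ := hm.2 ⟨g, hg⟩
      have hgo : (m o).1 = g := congrArg Subtype.val ho
      rw [← hgo]
      cases o with
      | none => exact Commute.refl _
      | some σ => exact E.commute_inc _
    obtain ⟨g, hg⟩ := isConj_iff.1 ha
    have hv : IsConj E.t (E.inc (a, Equiv.swap 0 2)) := ha.trans (E.isConj_inc a transposition_two).symm
    have h := hall _ (hv.trans (isConj_iff.2 ⟨g⁻¹, rfl⟩))
    have h' := h.map (MulAut.conj g).toMonoidHom
    simp only [MulEquiv.coe_toMonoidHom, MulAut.conj_apply, inv_inv, hg] at h'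
    have h'' : Commute (E.inc (a, Equiv.swap 0 2)) (E.inc (a, tsw)) := by
      simpa [mul_assoc] using h'
    have h3 := h''.eq
    rw [← map_mul, ← map_mul] at h3
    have h4 : (Equiv.swap 0 2 * tsw : Equiv.Perm (Fin 4)) = tsw * Equiv.swap 0 2 := congrArg Prod.snd (E.inj h3)
    exact absurd h4 (by decide +kernel)
  · refine iso_perm_six M hM e E.t htM E.t_sq (ψ (Equiv.swap 0 1 * Equiv.swap 1 2)) (hψM _) ?_ (hψc _)
      (E.eq_bot_of_inf hnc hM)
    rw [orderOf_injective ψ hψi]
    exact orderOf_eq_prime three_cycle.1 three_cycle.2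

end Data

end Cfsg.Agent.H64.CentSym
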